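import Cfsg.Agent.Lib.RegUnipotent.Tv

/-! The companion matrix of `(X - 1)ⁿ`. -/

set_option autoImplicit false

open Matrix Polynomial

namespace Cfsg.Agent.Lib.RegUnipotent

variable (F : Type*) [Field F] (n : ℕ)

/-- The last column. -/
noncomputable def bet (i : ℕ) : F := -(((X - 1 : F[X]) ^ n).coeff i)

/-- The companion matrix. -/
noncomputable def cM : Matrix (Fin n) (Fin n) F :=
  Matrix.of fun i j => if (j : ℕ) + 1 < n then (if (i : ℕ) = (j : ℕ) + 1 then 1 else 0) else bet F n i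

variable {F n}

theorem ev_eq_single {k : ℕ} (hk : k < n) : (ev k : Fin n → F) = Pi.single ⟨k, hk⟩ 1 := by
  funext i
  rcases eq_or_ne i ⟨k, hk⟩ with rfl | h
  · simp [ev]
  · rw [Pi.single_eq_of_ne h, ev, if_neg fun e => h (Fin.ext e)]

theorem mulVec_ev {k : ℕ} (hk : k < n) (M : Matrix (Fin n) (Fin n) F) (i : Fin n) :
    (M *ᵥ ev k) i = M i ⟨k, hk⟩ := by
  rw [ev_eq_single hk, Matrix.mulVec_single]; simp

theorem vecMul_ev {k : ℕ} (hk : k < n) (M : Matrix (Fin n) (Fin n) F) (j : Fin n) :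
    (ev k ᵥ* M) j = M ⟨k, hk⟩ j := by
  rw [ev_eq_single hk, Matrix.single_vecMul]; simp

theorem cM_ev {j : ℕ} (hj : j + 1 < n) : cM F n *ᵥ ev j = ev (j + 1) := by
  funext i
  rw [mulVec_ev (by omega)]
  simp [cM, hj, ev]

theorem cM_ev_last (hn : 0 < n) : cM F n *ᵥ ev (n - 1) = fun i : Fin n => bet F n i := by
  funext i
  rw [mulVec_ev (by omega)]
  simp [cM, show ¬ n - 1 + 1 < n by omega]

theorem cM_pow_ev (k j : ℕ) (h : j + k < n) : cM F n ^ k *ᵥ ev j = ev (j + k) := by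
  induction k generalizing j with
  | zero => simp
  | succ k ih =>
    rw [pow_succ, ← mulVec_mulVec, cM_ev (by omega), ih (j + 1) (by omega), Nat.succ_add_eq_add_succ]

theorem coeff_top : ((X - 1 : F[X]) ^ n).coeff n = 1 := by
  rcases Nat.eq_zero_or_pos n with rfl | _
  · simp
  · have h : ((X - C 1 : F[X]) ^ n).Monic := (monic_X_sub_C 1).pow n
    have hd : ((X - C 1 : F[X]) ^ n).natDegree = n := by rw [natDegree_pow, natDegree_X_sub_C, mul_one]
    rw [← C_1]
    conv_lhs => arg 2; rw [← hd]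
    exact h

theorem aeval_ev0 (P : F[X]) (d : ℕ) (hd : P.natDegree < d) :
    aeval (cM F n) P *ᵥ (ev 0 : Fin n → F) = ∑ i ∈ Finset.range d, P.coeff i • (cM F n ^ i *ᵥ ev 0) := by
  rw [aeval_eq_sum_range' hd, Matrix.sum_mulVec]
  simp [Matrix.smul_mulVec]

theorem cM_nil (hn : 0 < n) : (cM F n - 1) ^ n = 0 := by
  have e : (cM F n - 1) ^ n = aeval (cM F n) ((X - 1 : F[X]) ^ n) := by simp
  have h0 : (cM F n - 1) ^ n *ᵥ (ev 0 : Fin n → F) = 0 := by
    rw [e, aeval_ev0 _ (n + 1) (by rw [← C_1, natDegree_pow, natDegree_X_sub_C]; omega), Finset.sum_range_succ,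
      coeff_top, one_smul, show cM F n ^ n = cM F n * cM F n ^ (n - 1) by rw [← pow_succ', show n - 1 + 1 = n by omega],
      ← mulVec_mulVec, cM_pow_ev _ 0 (by omega), zero_add, cM_ev_last hn]
    funext r
    rw [Pi.add_apply, Finset.sum_apply, Finset.sum_eq_single (r : ℕ)]
    · rw [Pi.smul_apply, cM_pow_ev _ 0 (by simp), zero_add, ev, if_pos rfl, smul_eq_mul, mul_one, bet, add_neg_cancel,
        Pi.zero_apply]
    · intro i hi hne
      rw [Pi.smul_apply, cM_pow_ev _ 0 (by simpa using Finset.mem_range.mp hi), zero_add, ev, if_neg hne.symm, smul_zero]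
    · simp [r.2]
  apply Matrix.ext_of_mulVec_single
  intro j
  rw [← ev_eq_single j.2, Matrix.zero_mulVec]
  rw [show (ev (j : ℕ) : Fin n → F) = cM F n ^ (j : ℕ) *ᵥ ev 0 by rw [cM_pow_ev _ 0 (by simp), zero_add],
    mulVec_mulVec, (((Commute.refl (cM F n)).sub_left (Commute.one_left _)).pow_pow n (j : ℕ)).eq, ← mulVec_mulVec, h0,
    Matrix.mulVec_zero]

theorem cM_regular (hn : 0 < n) : (cM F n - 1) ^ (n - 1) ≠ 0 := by
  intro h
  have e : (cM F n - 1) ^ (n - 1) = aeval (cM F n) ((X - 1 : F[X]) ^ (n - 1)) := by simp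
  have h1 := congrArg (fun M : Matrix (Fin n) (Fin n) F => (M *ᵥ ev 0) ⟨n - 1, by omega⟩) h
  simp only [Matrix.zero_mulVec, Pi.zero_apply] at h1
  rw [e, aeval_ev0 _ n (by rw [← C_1, natDegree_pow, natDegree_X_sub_C]; omega), Finset.sum_apply,
    Finset.sum_eq_single (n - 1)] at h1
  · rw [Pi.smul_apply, cM_pow_ev _ 0 (by omega), zero_add, ev, if_pos rfl, smul_eq_mul, mul_one] at h1
    rw [coeff_top (n := n - 1)] at h1
    exact one_ne_zero h1
  · intro i hi hne
    rw [Pi.smul_apply, cM_pow_ev _ 0 (by simpa using Finset.mem_range.mp hi), zero_add, ev, if_neg hne.symm, smul_zero]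
  · simp [show n - 1 < n by omega]

theorem cM_det (p : ℕ) [hp : Fact p.Prime] [CharP F p] (hn : 0 < n) : (cM F n).det = 1 := by
  haveI : Nonempty (Fin n) := ⟨⟨0, hn⟩⟩
  have hk : n ≤ p ^ n := (Nat.lt_pow_self hp.out.one_lt).le
  have h1 : (cM F n - 1) ^ (p ^ n) = 0 := pow_eq_zero_of_le hk (cM_nil hn)
  rw [sub_pow_char_pow_of_commute p n (Commute.one_right _), one_pow, sub_eq_zero] at h1
  have h2 := congrArg Matrix.det h1
  rw [Matrix.det_pow, Matrix.det_one] at h2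
  apply iterateFrobenius_inj F p n
  simp [iterateFrobenius_def, h2]

variable (F n) in
/-- The companion matrix in `SL`. -/
noncomputable def cU (p : ℕ) [Fact p.Prime] [CharP F p] (hn : 0 < n) : SpecialLinearGroup (Fin n) F :=
  ⟨cM F n, cM_det p hn⟩

variable (p : ℕ) [Fact p.Prime] [CharP F p]

theorem bet_zero_ne : bet F n 0 ≠ 0 := by
  rw [bet, neg_ne_zero, coeff_zero_eq_eval_zero]
  simp

/-- `u⁻¹ e₀`. -/
noncomputable def eta : Fin n → F :=
  fun i => if (i : ℕ) + 1 < n then -(bet F n ((i : ℕ) + 1)) / bet F n 0 else (bet F n 0)⁻¹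

theorem cM_eta (hn : 0 < n) : cM F n *ᵥ eta = (ev 0 : Fin n → F) := by
  funext r
  show (fun j => cM F n r j) ⬝ᵥ eta = _
  simp only [dotProduct]
  have hL : eta (F := F) (⟨n - 1, by omega⟩ : Fin n) = (bet F n 0)⁻¹ := by simp [eta, show ¬ n - 1 + 1 < n by omega]
  rcases Nat.eq_zero_or_pos (r : ℕ) with h0 | h0
  · rw [Finset.sum_eq_single (⟨n - 1, by omega⟩ : Fin n), hL]
    · simp [cM, show ¬ n - 1 + 1 < n by omega, h0, ev, bet_zero_ne]
    · intro b _ hb
      have : (b : ℕ) + 1 < n := by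
        have : (b : ℕ) ≠ n - 1 := fun h => hb (Fin.ext h)
        omega
      simp [cM, this, h0]
    · simp
  · rw [Finset.sum_eq_add_of_mem (⟨(r : ℕ) - 1, by omega⟩ : Fin n) (⟨n - 1, by omega⟩ : Fin n) (Finset.mem_univ _)
      (Finset.mem_univ _) (fun h => by have := congrArg Fin.val h; simp at this; omega), hL]
    · have h1 : (r : ℕ) - 1 + 1 = r := by omega
      simp [cM, eta, h1, r.2, show ¬ n - 1 + 1 < n by omega, ev, h0.ne']
      field_simp
      ring
    · intro b _ hb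
      have : (b : ℕ) + 1 < n := by
        have : (b : ℕ) ≠ n - 1 := fun h => hb.2 (Fin.ext h)
        omega
      have : (r : ℕ) ≠ (b : ℕ) + 1 := fun h => hb.1 (Fin.ext (by simp; omega))
      simp [cM, *]

theorem inv_mulVec {g : SpecialLinearGroup (Fin n) F} {v w : Fin n → F} (h : g.1 *ᵥ v = w) : (g⁻¹).1 *ᵥ w = v := by
  have h1 : (g⁻¹).1 * g.1 = 1 := congrArg Subtype.val (inv_mul_cancel g)
  rw [← h, mulVec_mulVec, h1, one_mulVec]

theorem coe_cU_pow (hn : 0 < n) (k : ℕ) : (cU F n p hn ^ k).1 = cM F n ^ k := by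
  induction k with
  | zero => rfl
  | succ k ih => rw [pow_succ, cmul, ih, pow_succ]; rfl

theorem cU_inv_ev (hn : 0 < n) {j : ℕ} (hj : j + 1 < n) : ((cU F n p hn)⁻¹).1 *ᵥ ev (j + 1) = ev j :=
  inv_mulVec (cM_ev hj)

theorem cU_inv_ev0 (hn : 0 < n) : ((cU F n p hn)⁻¹).1 *ᵥ ev 0 = eta :=
  inv_mulVec (cM_eta hn)

theorem cU_pow_inv_ev (hn : 0 < n) {i j : ℕ} (hij : i ≤ j) (hj : j < n) :
    ((cU F n p hn ^ i)⁻¹).1 *ᵥ ev j = ev (j - i) :=
  inv_mulVec (by rw [coe_cU_pow, cM_pow_ev _ _ (by omega), Nat.sub_add_cancel hij])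

end Cfsg.Agent.Lib.RegUnipotent
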