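import Cfsg.Agent.Lib.RegUnipotent.Top

/-! `SL_n` is generated by two conjugate regular unipotent elements. -/

set_option autoImplicit false

open Matrix Polynomial

namespace Cfsg.Agent.Lib.RegUnipotent

variable {F : Type*} [Field F] {n p : ℕ} [Fact p.Prime] [CharP F p]

theorem El_comm {i j k : ℕ} (hi : i < n) (hj : j < n) (hij : i ≠ j) (hjk : j ≠ k) (hki : k ≠ i) (x y : F) :
    (El i j x : SpecialLinearGroup (Fin n) F) * El j k y * (El i j x)⁻¹ * (El j k y)⁻¹ = El i k (x * y) := by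
  have h1 : (ev j : Fin n → F) ⬝ᵥ (x • ev i) = 0 := by rw [dotProduct_smul, ev_dot_ev hi hij.symm, smul_zero]
  have h2 : (ev k : Fin n → F) ⬝ᵥ (y • ev j) = 0 := by rw [dotProduct_smul, ev_dot_ev hj hjk.symm, smul_zero]
  have h3 : (ev k : Fin n → F) ⬝ᵥ (x • ev i) = 0 := by rw [dotProduct_smul, ev_dot_ev hi hki, smul_zero]
  have e := comm_Tv h1 h2 h3
  rw [dotProduct_smul, ev_dot_self hj, smul_eq_mul, mul_one, ← Tv_smul y _ _ h3, smul_smul, mul_comm y] at e
  exact e

theorem bet_eq_int (i : ℕ) : bet F n i = ((-(((X - 1 : ℤ[X]) ^ n).coeff i) : ℤ) : F) := by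
  have e : ((X - 1 : F[X]) ^ n) = ((X - 1 : ℤ[X]) ^ n).map (Int.castRingHom F) := by simp
  rw [bet, e, Polynomial.coeff_map]
  simp

theorem bet_pow_ne {v m : ℕ} (hn : n = p ^ v * m) (hm : ¬ p ∣ m) : bet F n (p ^ v) ≠ 0 := by
  have hp : p.Prime := Fact.out
  have e : ((X - 1 : F[X]) ^ n) = expand F (p ^ v) ((X - 1 : F[X]) ^ m) := by
    rw [hn, pow_mul, sub_pow_char_pow, one_pow, map_pow, map_sub, expand_X, map_one]
  have e1 : (expand F (p ^ v) ((X - 1 : F[X]) ^ m)).coeff (p ^ v * 1) = ((X - 1 : F[X]) ^ m).coeff 1 := by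
    rw [mul_comm]; exact coeff_expand_mul (pow_pos hp.pos v) _ _
  rw [mul_one] at e1
  rw [bet, e, e1, neg_ne_zero, show (X - 1 : F[X]) = X + C (-1) by rw [C_neg, C_1, sub_eq_add_neg],
    coeff_X_add_C_pow, Nat.choose_one_right]
  exact mul_ne_zero (pow_ne_zero _ (by simp)) (fun h => hm ((CharP.cast_eq_zero_iff F p m).mp h))

variable (hn : 4 ≤ n)

theorem generation [Fintype F] {c : F} (hc0 : c ≠ 0) (hcgen : ∀ x : F, x ≠ 0 → ∃ m : ℕ, x = c ^ m)
    (H : Subgroup (SpecialLinearGroup (Fin n) F)) (hu : cU F n p (show 0 < n by omega) ∈ H)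
    (hv : El 0 (n - 1) c * cU F n p (show 0 < n by omega) * (El 0 (n - 1) c)⁻¹ ∈ H) : H = ⊤ := by
  classical
  have hn0 : 0 < n := by omega
  set u := cU F n p hn0
  set L := n - 1 with hL
  set t : SpecialLinearGroup (Fin n) F := El 0 L c with ht
  set β := bet F n 0 with hβ
  have hβ0 : β ≠ 0 := bet_zero_ne
  -- conjugates of `t`
  set φ : ℕ → (Fin n → F) := fun i => ev L ᵥ* ((u ^ i)⁻¹).1 with hφ
  set s : ℕ → SpecialLinearGroup (Fin n) F := fun i => u ^ i * t * (u ^ i)⁻¹ with hs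
  have htd : (ev L : Fin n → F) ⬝ᵥ (c • ev 0) = 0 := by rw [dotProduct_smul, ev_dot_ev hn0 (by omega), smul_zero]
  have s_eq : ∀ i, i < n → s i = Tv (c • ev i) (φ i) := fun i hi => by
    show u ^ i * t * (u ^ i)⁻¹ = _
    rw [ht, El, conj_Tv _ htd, coe_cU_pow, Matrix.mulVec_smul, cM_pow_ev _ _ (by omega), zero_add]
  have φ_val : ∀ i j, ∀ hj : j < n, φ i ⟨j, hj⟩ = (((u ^ i)⁻¹).1 *ᵥ ev j) ⟨L, by omega⟩ := fun i j hj => by
    show (ev L ᵥ* _) _ = _
    rw [vecMul_ev (by omega), mulVec_ev hj]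
  have φ_hi : ∀ i j, ∀ hj : j < n, i ≤ j → φ i ⟨j, hj⟩ = if L = j - i then 1 else 0 := fun i j hj hij => by
    rw [φ_val, cU_pow_inv_ev p hn0 hij hj]; rfl
  have φ_low : ∀ i, ∀ hi : i + 1 < n, φ (i + 1) ⟨i, by omega⟩ = β⁻¹ := fun i hi => by
    rw [φ_val, pow_succ, _root_.mul_inv_rev, cmul, ← mulVec_mulVec, cU_pow_inv_ev p hn0 le_rfl (by omega),
      Nat.sub_self, cU_inv_ev0]
    simp [eta, hβ, show ¬ L + 1 < n by omega]
  have φ_dot : ∀ i, i < n → φ i ⬝ᵥ (c • ev i) = 0 := fun i hi => by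
    rw [dotProduct_smul, dot_ev hi, φ_hi i i hi le_rfl, Nat.sub_self, if_neg (by omega), smul_zero]
  -- differences
  have hdiff0 : ∀ i, s 0 * (s i)⁻¹ ∈ H := by
    have h1 : ∀ i, s i * (s (i + 1))⁻¹ ∈ H := fun i => by
      have : s i * (s (i + 1))⁻¹ = u ^ i * (t * u * t⁻¹ * u⁻¹) * (u ^ i)⁻¹ := by
        simp only [hs, pow_succ]; group
      rw [this]
      exact mul_mem (mul_mem (pow_mem hu _) (mul_mem hv (inv_mem hu))) (inv_mem (pow_mem hu _))
    intro i
    induction i with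
    | zero => rw [mul_inv_cancel]; exact one_mem H
    | succ i ih => simpa [mul_assoc] using mul_mem ih (h1 i)
  have hdiff : ∀ i j, s i * (s j)⁻¹ ∈ H := fun i j => by
    simpa [mul_assoc] using mul_mem (inv_mem (hdiff0 i)) (hdiff0 j)
  -- the corner
  obtain ⟨b, hb0, hb⟩ : ∃ b : F, b ≠ 0 ∧ b ∈ R H (n - 2) L := by
    refine exists_corner hn H fun i j hi hj hij => ?_
    have hi' : (i : ℕ) + 1 < n := by by_contra hc; exact hi (by simp [rk, hc])
    have hj' : (j : ℕ) + 1 < n := by by_contra hc; exact hj (by simp [rk, hc])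
    have hA : ∀ (k : ℕ) (_ : k + 1 < n) (g : Fin n → F), (∀ l, ∀ hl : l < n, k ≤ l → L ≠ l - k → g ⟨l, hl⟩ = 0) →
        Lev 1 (vecMulVec (c • ev k) g : Matrix (Fin n) (Fin n) F) := by
      intro k hk g hg r l hrl
      rw [vecMulVec_apply, Pi.smul_apply, ev]
      by_cases hr : (r : ℕ) = k
      · have h1 : rk r = k + 1 := by simp [rk, hr, hk]
        have h2 : (l : ℕ) + 1 < n ∧ k ≤ (l : ℕ) := by
          unfold rk at hrl h1
          split_ifs at hrl h1 <;> constructor <;> omega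
        rw [show g l = 0 from hg l l.2 h2.2 (by omega), mul_zero]
      · rw [if_neg hr, smul_zero, zero_mul]
    set A : Matrix (Fin n) (Fin n) F := vecMulVec (c • ev (i : ℕ)) (φ i) with hAdef
    set B : Matrix (Fin n) (Fin n) F := vecMulVec (c • ev (j : ℕ)) (-φ j) with hBdef
    have lA : Lev 1 A := hA i hi' _ fun l hl h1 h2 => by rw [φ_hi _ _ hl h1, if_neg h2]
    have lB : Lev 1 B := hA j hj' _ fun l hl h1 h2 => by rw [Pi.neg_apply, φ_hi _ _ hl h1, if_neg h2, neg_zero]
    have eA : (s i * (s j)⁻¹).1 - 1 = A + B + A * B := by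
      rw [cmul, s_eq i i.2, s_eq j j.2, Tv_inv (φ_dot j j.2), coe_Tv (φ_dot i i.2),
        coe_Tv (by rw [neg_dotProduct, φ_dot j j.2, neg_zero])]
      rw [hAdef, hBdef]; noncomm_ring
    have hlow : ∀ r l, rk r = rk l + 1 → (A * B) r l = 0 := fun r l h => (lA.mul lB) r l (by omega)
    refine ⟨_, hdiff i j, ?_, ?_, ?_⟩
    · rw [eA]; exact (lA.add lB).add ((lA.mul lB).mono (by omega))
    · intro r l hrl hri hrj
      rw [eA, Matrix.add_apply, Matrix.add_apply, hlow r l hrl, add_zero, hAdef, hBdef, vecMulVec_apply,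
        vecMulVec_apply, Pi.smul_apply, Pi.smul_apply, ev, ev, if_neg (fun h => hri (Fin.ext h)),
        if_neg (fun h => hrj (Fin.ext h))]
      simp
    · intro l hl
      rw [eA, Matrix.add_apply, Matrix.add_apply, hlow i l hl, add_zero, hAdef, hBdef, vecMulVec_apply, vecMulVec_apply,
        Pi.smul_apply, Pi.smul_apply, ev, ev, if_pos rfl, if_neg (fun h => hij (Fin.ext h))]
      simp only [smul_eq_mul, mul_one, mul_zero, zero_mul, add_zero]
      refine mul_ne_zero hc0 ?_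
      unfold rk at hl
      rw [if_pos hi'] at hl
      rcases Nat.eq_zero_or_pos (i : ℕ) with h0 | h0
      · have hlv : (l : ℕ) = L := by split_ifs at hl <;> omega
        rw [h0, show φ 0 l = 1 by rw [show l = ⟨(l : ℕ), l.2⟩ from rfl, φ_hi 0 l l.2 (Nat.zero_le _), if_pos (by omega)]]
        exact one_ne_zero
      · have hlv : (i : ℕ) = (l : ℕ) + 1 := by split_ifs at hl <;> omega
        rw [hlv, show φ ((l : ℕ) + 1) l = β⁻¹ from φ_low l (by omega)]
        exact inv_ne_zero hβ0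
  -- the shift
  set ρ : ℕ → (Fin n → F) := fun k => ev k ᵥ* (u⁻¹).1 with hρ
  have ρ_succ : ∀ k, k < n → ∀ j, ∀ hj : j + 1 < n, ρ k ⟨j + 1, hj⟩ = if k = j then 1 else 0 := fun k hk j hj => by
    show (ev k ᵥ* _) _ = _
    rw [vecMul_ev hk, ← mulVec_ev hj (u⁻¹).1 ⟨k, hk⟩, cU_inv_ev p hn0 hj]; rfl
  have ρ_zero : ∀ k, ∀ hk : k < n, ρ k ⟨0, hn0⟩ = eta ⟨k, hk⟩ := fun k hk => by
    show (ev k ᵥ* _) _ = _
    rw [vecMul_ev hk, ← mulVec_ev hn0 (u⁻¹).1 ⟨k, hk⟩, cU_inv_ev0 p hn0]
  have shift : ∀ i k, i + 1 < n → k < n → i ≠ k → ∀ x : F, u * El i k x * u⁻¹ = Tv (x • ev (i + 1)) (ρ k) := by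
    intro i k hi hk hik x
    rw [El, conj_Tv _ (by rw [dotProduct_smul, ev_dot_ev (by omega) hik.symm, smul_zero]), Matrix.mulVec_smul]
    show Tv (x • (cM F n *ᵥ ev i)) _ = _
    rw [cM_ev hi]
  have ρL : ρ L = β⁻¹ • ev 0 := by
    funext j
    obtain ⟨_ | j, hj⟩ := j
    · rw [ρ_zero L (by omega)]; simp [eta, hβ, ev, show ¬ L + 1 < n by omega]
    · rw [ρ_succ L (by omega) j hj, if_neg (by omega)]; simp [ev]
  have shiftL : ∀ i, i + 1 < n → ∀ x : F, u * El i L x * u⁻¹ = El (i + 1) 0 (x * β⁻¹) := by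
    intro i hi x
    have h0 : (ev 0 : Fin n → F) ⬝ᵥ (x • ev (i + 1)) = 0 := by
      rw [dotProduct_smul, ev_dot_ev hi (by omega), smul_zero]
    rw [shift i L hi (by omega) (by omega), ρL, ← Tv_smul _ _ _ h0, smul_smul, mul_comm, El]
  have up : ∀ i, i + 1 < n → ∀ x, x ∈ R H i L → x * β⁻¹ ∈ R H (i + 1) 0 := fun i hi x hx => by
    show El _ _ _ ∈ H
    rw [← shiftL i hi]; exact mul_mem (mul_mem hu hx) (inv_mem hu)
  have down : ∀ i, i + 1 < n → ∀ x, x ∈ R H (i + 1) 0 → x * β ∈ R H i L := fun i hi x hx => by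
    show El i L (x * β) ∈ H
    have := shiftL i hi (x * β)
    rw [mul_assoc x β β⁻¹, mul_inv_cancel₀ hβ0, mul_one] at this
    have e : El i L (x * β) = u⁻¹ * El (i + 1) 0 x * u := by rw [← this]; group
    rw [e]; exact mul_mem (mul_mem (inv_mem hu) hx) hu
  have nL0 : Nz H L 0 := by
    refine ⟨b * β⁻¹, mul_ne_zero hb0 (inv_ne_zero hβ0), ?_⟩
    have := up (n - 2) (by omega) b hb
    rwa [show n - 2 + 1 = L by omega] at this
  have colL : ∀ i, i < L → Nz H i L := by
    suffices ∀ d i, i + d = n - 2 → Nz H i L from fun i hi => this (n - 2 - i) i (by omega)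
    intro d
    induction d with
    | zero => intro i hi; rw [show i = n - 2 by omega]; exact ⟨b, hb0, hb⟩
    | succ d ih =>
      intro i hi
      obtain ⟨x, hx0, hx⟩ := Nz_comp (show i + 1 < n by omega) (show L < n by omega) (by omega) (by omega) (by omega)
        (ih (i + 1) (by omega)) nL0
      exact ⟨x * β, mul_ne_zero hx0 hβ0, down i (by omega) x hx⟩
  have col0 : ∀ i, 1 ≤ i → i < n → Nz H i 0 := fun i hi hin => by
    obtain ⟨x, hx0, hx⟩ := colL (i - 1) (by omega)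
    have := up (i - 1) (by omega) x hx
    rw [show i - 1 + 1 = i by omega] at this
    exact ⟨_, mul_ne_zero hx0 (inv_ne_zero hβ0), this⟩
  -- column 1
  have nL1 : Nz H L 1 := by
    obtain ⟨x, hx0, hx⟩ := col0 (n - 2) (by omega) (by omega)
    obtain ⟨a, ha0, ha⟩ := colL 0 (by omega)
    obtain ⟨y, hy0, hy⟩ := colL 2 (by omega)
    set η := (eta : Fin n → F) ⟨0, hn0⟩ with hη
    have hρ0 : ρ 0 = ev 1 + η • ev 0 := by
      funext j
      obtain ⟨_ | j, hj⟩ := j
      · rw [ρ_zero 0 hn0]; simp [ev, hη]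
      · rw [ρ_succ 0 hn0 j hj]; simp [ev, eq_comm]
    have hT : Tv (x • ev L) (ρ 0) ∈ H := by
      have e := shift (n - 2) 0 (by omega) hn0 (by omega) x
      rw [show n - 2 + 1 = L by omega] at e
      rw [← e]; exact mul_mem (mul_mem hu hx) (inv_mem hu)
    have d1 : ∀ k, k < n → 2 ≤ k → ρ 0 ⬝ᵥ (ev k : Fin n → F) = 0 := fun k hk h2 => by
      rw [hρ0, add_dotProduct, smul_dotProduct, ev_dot_ev hk (by omega), ev_dot_ev hk (by omega), smul_zero, add_zero]
    have hη1 : x * η ∈ R H L 0 := by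
      have h1 : ρ 0 ⬝ᵥ (x • ev L) = 0 := by rw [dotProduct_smul, d1 L (by omega) (by omega), smul_zero]
      have h2 : (ev L : Fin n → F) ⬝ᵥ (y • ev 2) = 0 := by rw [dotProduct_smul, ev_dot_ev (by omega) (by omega), smul_zero]
      have h3 : ρ 0 ⬝ᵥ (y • ev 2) = 0 := by rw [dotProduct_smul, d1 2 (by omega) le_rfl, smul_zero]
      have e1 := comm_Tv h2 h1 h3
      rw [dotProduct_smul, ev_dot_self (by omega), smul_eq_mul, mul_one, ← Tv_smul x _ _ h3, smul_smul] at e1
      have hT' : Tv ((x * y) • ev 2) (ρ 0) ∈ H := by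
        rw [← e1]; exact mul_mem (mul_mem (mul_mem hy hT) (inv_mem hy)) (inv_mem hT)
      have g1 : ρ 0 ⬝ᵥ ((x * y) • ev 2) = 0 := by rw [dotProduct_smul, d1 2 (by omega) le_rfl, smul_zero]
      have g2 : (ev L : Fin n → F) ⬝ᵥ (a • ev 0) = 0 := by rw [dotProduct_smul, ev_dot_ev hn0 (by omega), smul_zero]
      have g3 : (ev L : Fin n → F) ⬝ᵥ ((x * y) • ev 2) = 0 := by
        rw [dotProduct_smul, ev_dot_ev (by omega) (by omega), smul_zero]
      have e2 := comm_Tv g1 g2 g3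
      rw [dotProduct_smul, dot_ev hn0, ρ_zero 0 hn0, smul_eq_mul, ← Tv_smul _ _ _ g3, smul_smul, ← hη] at e2
      have hz : x * η * (y * a) ∈ R H 2 L := by
        show El 2 L _ ∈ H
        rw [El, show x * η * (y * a) = a * η * (x * y) by ring, ← e2]
        exact mul_mem (mul_mem (mul_mem hT' ha) (inv_mem hT')) (inv_mem ha)
      refine mem_of_links (mul_ne_zero hy0 ha0) (q := β⁻¹ * (a * β⁻¹) ^ (L - 3))
        (mul_ne_zero (inv_ne_zero hβ0) (pow_ne_zero _ (mul_ne_zero ha0 (inv_ne_zero hβ0)))) ?_ ?_ hz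
      · intro α hα
        have e := R_comp (by omega) hn0 (by omega) (by omega) (by omega)
          (R_comp (show 2 < n by omega) (show L < n by omega) (by omega) (by omega) (by omega) hy hα) ha
        rwa [show α * (y * a) = y * α * a by ring]
      · intro w hw
        have key : ∀ k, 3 + k ≤ L → w * (β⁻¹ * (a * β⁻¹) ^ k) ∈ R H (3 + k) 0 := by
          intro k
          induction k with
          | zero => intro _; rw [pow_zero, mul_one]; exact up 2 (by omega) w hw
          | succ k ih =>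
            intro hk
            have h1 := R_comp (show 3 + k < n by omega) hn0 (by omega) (by omega) (by omega) (ih (by omega)) ha
            have h2 := up (3 + k) (by omega) _ h1
            rwa [show w * (β⁻¹ * (a * β⁻¹) ^ (k + 1)) = w * (β⁻¹ * (a * β⁻¹) ^ k) * a * β⁻¹ by ring]
        have := key (L - 3) (by omega)
        rwa [show 3 + (L - 3) = L by omega] at this
    refine ⟨x, hx0, ?_⟩
    show El L 1 x ∈ H
    have hm := R_neg (show L < n by omega) (show L ≠ 0 by omega) hη1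
    have k0 : ρ 0 ⬝ᵥ (ev L : Fin n → F) = 0 := d1 L (by omega) (by omega)
    have k1 : (ev 0 : Fin n → F) ⬝ᵥ ev L = 0 := ev_dot_ev (by omega) (by omega)
    have e : El L 1 x = Tv (x • ev L) (ρ 0) * El L 0 (-(x * η)) := by
      rw [El, El, Tv_smul _ _ _ k0, Tv_smul _ _ _ k1, Tv_smul _ _ _ (ev_dot_ev (by omega) (by omega)),
        Tv_mul (by rw [smul_dotProduct, k0, smul_zero]) (by rw [smul_dotProduct, k1, smul_zero]), hρ0]
      congr 1
      rw [smul_add, smul_smul, neg_smul]; abel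
    rw [e]; exact mul_mem hT hm
  have col1 : ∀ i, i < n → i ≠ 1 → Nz H i 1 := fun i hi hi1 => by
    rcases eq_or_ne i L with rfl | hiL
    · exact nL1
    · exact Nz_comp hi (by omega) hiL (by omega) hi1.symm (colL i (by omega)) nL1
  -- the other columns
  have colk : ∀ d k, k + d = L → 2 ≤ k → ∀ i, i < n → i ≠ k → Nz H i k := by
    intro d
    induction d using Nat.strong_induction_on with
    | _ d ih =>
    intro k hkd hk2
    rcases Nat.eq_zero_or_pos d with rfl | hd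
    · intro i hi hik
      rw [show k = L by omega]
      exact colL i (by omega)
    obtain ⟨x, hx0, hx⟩ := colL d (by omega)
    set f : Fin n → F := ev L ᵥ* (u ^ d).1 with hf
    have fval : ∀ j, ∀ hj : j + d < n, f ⟨j, by omega⟩ = if L = j + d then 1 else 0 := fun j hj => by
      rw [hf, vecMul_ev (show L < n by omega), ← mulVec_ev (show j < n by omega) (u ^ d).1 ⟨L, by omega⟩,
        coe_cU_pow, cM_pow_ev _ _ hj]
      rfl
    have hZ : Tv (x • ev 0) f ∈ H := by
      have e := conj_Tv (u ^ d)⁻¹ (x := (x • ev d : Fin n → F)) (f := ev L)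
        (by rw [dotProduct_smul, ev_dot_ev (by omega) (by omega), smul_zero])
      rw [inv_inv, Matrix.mulVec_smul, cU_pow_inv_ev p hn0 le_rfl (by omega), Nat.sub_self, ← hf] at e
      rw [← e]; exact mul_mem (mul_mem (inv_mem (pow_mem hu _)) hx) (pow_mem hu _)
    have hf0 : f ⟨0, hn0⟩ = 0 := by rw [fval 0 (by omega), if_neg (by omega)]
    let W : AddSubgroup (Fin n → F) :=
      { carrier := {g | g ⬝ᵥ ev 0 = 0 ∧ Tv (ev 0) g ∈ H}
        zero_mem' := ⟨zero_dotProduct _, by rw [Tv_zero]; exact one_mem H⟩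
        add_mem' := fun {a b} ha hb => ⟨by rw [add_dotProduct, ha.1, hb.1, add_zero],
          by rw [← Tv_mul ha.1 hb.1]; exact mul_mem ha.2 hb.2⟩
        neg_mem' := fun {a} ha => ⟨by rw [neg_dotProduct, ha.1, neg_zero],
          by rw [← Tv_inv ha.1]; exact inv_mem ha.2⟩ }
    have hfd : f ⬝ᵥ ev 0 = 0 := by rw [dot_ev hn0, hf0]
    have hfW : x • f ∈ W := ⟨by rw [smul_dotProduct, hfd, smul_zero], by rw [← Tv_smul _ _ _ hfd]; exact hZ⟩
    have hlW : ∀ l : Fin n, k < (l : ℕ) → (x * f l) • ev (l : ℕ) ∈ W := fun l hl => by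
      refine ⟨by rw [smul_dotProduct, ev_dot_ev hn0 (by omega), smul_zero], ?_⟩
      rw [← Tv_smul _ _ _ (ev_dot_ev hn0 (by omega))]
      refine extract (b := 1) hn0 l.2 (by omega) (by omega) (by omega) (by omega) hf0 hZ
        (col1 l l.2 (by omega)) ?_
      rcases Nat.lt_or_ge (l : ℕ) L with hlL | hlL
      · exact ih (L - (l : ℕ)) (by omega) l (by omega) (by omega) 1 (by omega) (by omega)
      · rw [show (l : ℕ) = L by omega]; exact colL 1 (by omega)
    have hkW : x • (ev k : Fin n → F) ∈ W := by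
      have e : x • (ev k : Fin n → F) =
          x • f - ∑ l ∈ Finset.univ.filter (fun l : Fin n => k < (l : ℕ)), (x * f l) • ev (l : ℕ) := by
        funext j
        rw [Pi.sub_apply, Finset.sum_apply, Pi.smul_apply, Pi.smul_apply]
        rcases Nat.lt_or_ge k (j : ℕ) with hj | hj
        · rw [Finset.sum_eq_single j, Pi.smul_apply, ev, if_neg (by omega), ev, if_pos rfl, smul_eq_mul, smul_eq_mul,
            smul_eq_mul]
          · ring
          · intro l _ hne; rw [Pi.smul_apply, ev, if_neg (fun c => hne (Fin.ext c.symm)), smul_zero]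
          · simp [hj]
        · rw [Finset.sum_eq_zero (fun l hl => by
            rw [Finset.mem_filter] at hl
            rw [Pi.smul_apply, ev, if_neg (by omega), smul_zero]), sub_zero, fval j (by omega), ev]
          congr 1
          by_cases hjk : (j : ℕ) = k
          · rw [if_pos hjk, if_pos (by omega)]
          · rw [if_neg hjk, if_neg (by omega)]
      rw [e]
      exact sub_mem hfW (AddSubgroup.sum_mem _ fun l hl => hlW l (Finset.mem_filter.mp hl).2)
    have n0k : Nz H 0 k := by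
      refine ⟨x, hx0, ?_⟩
      show El 0 k x ∈ H
      rw [El, Tv_smul _ _ _ (ev_dot_ev hn0 (by omega))]
      exact hkW.2
    intro i hi hik
    rcases Nat.eq_zero_or_pos i with rfl | hi0
    · exact n0k
    · exact Nz_comp hi hn0 (by omega) (by omega) hik.symm (col0 i hi0 hi) n0k
  have allNz : ∀ i j, i < n → j < n → i ≠ j → Nz H i j := by
    intro i j hi hj hij
    rcases (show j = 0 ∨ j = 1 ∨ 2 ≤ j by omega) with rfl | rfl | h2
    · exact col0 i (by omega) hi
    · exact col1 i hi hij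
    · exact colk (L - j) j (by omega) h2 i hi hij
  have ext1 : ∀ i l, ∀ hi : i < n, ∀ hl : l < n, i ≠ l → ∀ (x : F) (f : Fin n → F), f ⟨i, hi⟩ = 0 →
      Tv (x • ev i) f ∈ H → x * f ⟨l, hl⟩ ∈ R H i l := by
    intro i l hi hl hil x f hf hT
    obtain ⟨b, hbn, hbi, hbl⟩ : ∃ b, b < n ∧ b ≠ i ∧ b ≠ l := by
      rcases (show (0 ≠ i ∧ 0 ≠ l) ∨ (1 ≠ i ∧ 1 ≠ l) ∨ (2 ≠ i ∧ 2 ≠ l) by omega) with h | h | h
      · exact ⟨0, by omega, h⟩
      · exact ⟨1, by omega, h⟩
      · exact ⟨2, by omega, h⟩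
    exact extract hi hl hbn hil hbi hbl hf hT (allNz l b hl hbn hbl.symm) (allNz b l hbn hl hbl)
  -- `t ∈ H`
  set γ := c * β⁻¹ with hγ
  have hc : c ∈ R H 0 L := by
    obtain ⟨x, hx0, hx⟩ := allNz L 2 (by omega) (by omega) (by omega)
    obtain ⟨y, hy0, hy⟩ := allNz 2 L (by omega) (by omega) (by omega)
    refine mem_of_links hx0 hy0 (fun a ha => R_comp hn0 (by omega) (by omega) (by omega) (by omega) ha hx)
      (fun a ha => R_comp hn0 (by omega) (by omega) (by omega) (by omega) ha hy) ?_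
    have ha0 : t * (s 1)⁻¹ ∈ H := by simpa [hs] using hdiff 0 1
    have hs1 : s 1 = El 1 0 γ := by
      simp only [hs, pow_one, ht]
      exact shiftL 0 (by omega) c
    have hcomm : El 1 0 γ * El L 2 x * (El 1 0 γ)⁻¹ * (El L 2 x : SpecialLinearGroup (Fin n) F)⁻¹ = 1 := by
      have h1 : (ev 0 : Fin n → F) ⬝ᵥ (γ • ev 1) = 0 := by rw [dotProduct_smul, ev_dot_ev (by omega) (by omega), smul_zero]
      have h2 : (ev 2 : Fin n → F) ⬝ᵥ (x • ev L) = 0 := by rw [dotProduct_smul, ev_dot_ev (by omega) (by omega), smul_zero]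
      have h3 : (ev 2 : Fin n → F) ⬝ᵥ (γ • ev 1) = 0 := by rw [dotProduct_smul, ev_dot_ev (by omega) (by omega), smul_zero]
      rw [El, El, comm_Tv h1 h2 h3, dotProduct_smul, ev_dot_ev (by omega) (by omega), smul_zero, zero_smul, Tv_zero]
    have hcm : (El 1 0 γ)⁻¹ * El L 2 x = (El L 2 x : SpecialLinearGroup (Fin n) F) * (El 1 0 γ)⁻¹ := by
      have hC : Commute (El 1 0 γ) (El L 2 x : SpecialLinearGroup (Fin n) F) :=
        mul_inv_eq_iff_eq_mul.mp (mul_inv_eq_one.mp hcomm)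
      exact hC.inv_left.eq
    show El 0 2 (c * x) ∈ H
    rw [← El_comm hn0 (show L < n by omega) (by omega) (by omega) (by omega)]
    have e : t * El L 2 x * t⁻¹ * (El L 2 x)⁻¹ =
        (t * (s 1)⁻¹) * El L 2 x * (t * (s 1)⁻¹)⁻¹ * (El L 2 x)⁻¹ := by
      rw [hs1, _root_.mul_inv_rev, inv_inv, mul_assoc t ((El 1 0 γ)⁻¹), hcm]; group
    rw [e]
    exact mul_mem (mul_mem (mul_mem ha0 hx) (inv_mem ha0)) (inv_mem hx)
  have htH : t ∈ H := hc
  have hsH : ∀ i, s i ∈ H := fun i => mul_mem (mul_mem (pow_mem hu _) htH) (inv_mem (pow_mem hu _))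
  have hγi : ∀ i, i + 1 < n → γ ∈ R H (i + 1) i := fun i hi => by
    have hT := hsH (i + 1)
    rw [s_eq (i + 1) hi] at hT
    have := ext1 (i + 1) i hi (by omega) (by omega) c (φ (i + 1))
      (by rw [φ_hi _ _ hi le_rfl, Nat.sub_self, if_neg (by omega)]) hT
    rwa [φ_low i hi] at this
  have hγp : ∀ i, 1 ≤ i → i < n → γ ^ i ∈ R H i 0 := by
    intro i hi hin
    induction i, hi using Nat.le_induction with
    | base => rw [pow_one]; exact hγi 0 (by omega)
    | succ i hi ih =>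
      rw [pow_succ']
      exact R_comp hin (by omega) (by omega) (by omega) (by omega) (hγi i hin) (ih (by omega))
  -- the multiplier field
  let K : Subring F :=
    { carrier := {a | ∀ x, x ∈ R H 1 0 → a * x ∈ R H 1 0}
      mul_mem' := fun {a b} ha hb x hx => by rw [mul_assoc]; exact ha _ (hb x hx)
      one_mem' := fun x hx => by rwa [one_mul]
      add_mem' := fun {a b} ha hb x hx => by rw [add_mul]; exact R_add (by omega) (by omega) (ha x hx) (hb x hx)
      zero_mem' := fun x _ => by rw [zero_mul]; exact zero_mem_R _ _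
      neg_mem' := fun {a} ha x hx => by rw [neg_mul]; exact R_neg (by omega) (by omega) (ha x hx) }
  have cyc : ∀ b, b < n → 2 ≤ b → ∀ a z, a ∈ R H 0 b → z ∈ R H b 0 → a * z ∈ K := by
    intro b hb h2 a z ha hz x hx
    have := R_comp (show 1 < n by omega) hb (by omega) (by omega) (by omega)
      (R_comp (show 1 < n by omega) hn0 (by omega) (by omega) (by omega) hx ha) hz
    rwa [show a * z * x = x * a * z by ring]
  have hKinv : ∀ a ∈ K, a⁻¹ ∈ K := fun a ha => by
    rcases eq_or_ne a 0 with rfl | h0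
    · rw [_root_.inv_zero]; exact zero_mem K
    · have hq := Fintype.one_lt_card (α := F)
      have : a⁻¹ = a ^ (Fintype.card F - 2) := by
        refine inv_eq_of_mul_eq_one_left ?_
        rw [← pow_succ, show Fintype.card F - 2 + 1 = Fintype.card F - 1 by omega, FiniteField.pow_card_sub_one_eq_one a h0]
      rw [this]; exact pow_mem ha _
  have hγ0 : γ ≠ 0 := mul_ne_zero hc0 (inv_ne_zero hβ0)
  have hbK : ∀ i, bet F n i ∈ K := fun i => by rw [bet_eq_int]; exact intCast_mem K _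
  obtain ⟨v, m, hm, hnm⟩ : ∃ v m, ¬ p ∣ m ∧ n = p ^ v * m :=
    Nat.exists_eq_pow_mul_and_not_dvd (by omega) p (Fact.out : p.Prime).ne_one
  have hcK : c ^ (p ^ v) ∈ K := by
    rcases (show m = 1 ∨ 2 ≤ m by rcases Nat.eq_zero_or_pos m with rfl | h <;> [simp at hnm; skip] <;> omega) with rfl | hm2
    · rw [mul_one] at hnm
      rw [← hnm]
      have h1 := cyc L (by omega) (by omega) c (γ ^ L) hc (hγp L (by omega) (by omega))
      have e : c ^ n = c * γ ^ L * β ^ L := by
        rw [hγ, mul_pow, mul_assoc, mul_assoc, ← mul_pow, inv_mul_cancel₀ hβ0, one_pow, mul_one,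
          show n = L + 1 by omega, pow_succ']
      rw [e]; exact mul_mem h1 (pow_mem (hbK 0) _)
    · set i := p ^ v with hi
      have hipos : 1 ≤ i := Nat.one_le_pow _ _ (Fact.out : p.Prime).pos
      have hin : 2 * i ≤ n := by rw [hnm, mul_comm 2 i]; exact Nat.mul_le_mul_left i hm2
      obtain ⟨z, hz0, hz⟩ := allNz 0 (i + 1) hn0 (by omega) (by omega)
      set κ := (eta : Fin n → F) ⟨i - 1, by omega⟩ with hκ
      have hκv : κ = -(bet F n i) / β := by
        rw [hκ, eta, if_pos (by simp only; omega)]; simp [hβ, Nat.sub_add_cancel hipos]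
      have hκ0 : κ ≠ 0 := by rw [hκv]; exact div_ne_zero (neg_ne_zero.mpr (bet_pow_ne hnm hm)) hβ0
      have h1 : γ * κ ∈ R H (i + 1) 0 := by
        have hx : γ ∈ R H i (i - 1) := by
          have := hγi (i - 1) (by omega); rwa [Nat.sub_add_cancel hipos] at this
        have hT : Tv (γ • ev (i + 1)) (ρ (i - 1)) ∈ H := by
          rw [← shift i (i - 1) (by omega) (by omega) (by omega)]
          exact mul_mem (mul_mem hu hx) (inv_mem hu)
        have := ext1 (i + 1) 0 (by omega) hn0 (by omega) γ (ρ (i - 1))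
          (by rw [ρ_succ (i - 1) (by omega) i (by omega), if_neg (by omega)]) hT
        rwa [ρ_zero (i - 1) (by omega)] at this
      have h2 := cyc (i + 1) (by omega) (by omega) z _ hz h1
      have h3 := cyc (i + 1) (by omega) (by omega) z _ hz (hγp (i + 1) (by omega) (by omega))
      have hκK : κ ∈ K := by rw [hκv, div_eq_mul_inv]; exact mul_mem (neg_mem (hbK i)) (hKinv _ (hbK 0))
      have e : c ^ i = z * γ ^ (i + 1) * (z * (γ * κ))⁻¹ * κ * β ^ i := by
        rw [pow_succ, show c ^ i = γ ^ i * β ^ i by rw [← mul_pow, hγ, mul_assoc, inv_mul_cancel₀ hβ0, mul_one]]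
        field_simp
      rw [e]
      exact mul_mem (mul_mem (mul_mem h3 (hKinv _ h2)) hκK) (pow_mem (hbK 0) _)
  have hKtop : ∀ a : F, a ∈ K := by
    intro a
    rcases eq_or_ne a 0 with rfl | ha
    · exact zero_mem K
    · obtain ⟨y, hy⟩ := Finite.surjective_of_injective (iterateFrobenius_inj F p v) a
      rw [iterateFrobenius_def] at hy
      have hy0 : y ≠ 0 := by rintro rfl; exact ha (by rw [← hy, zero_pow (pow_ne_zero _ (Fact.out : p.Prime).ne_zero)])
      obtain ⟨k, rfl⟩ := hcgen y hy0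
      rw [← hy, ← pow_mul, mul_comm, pow_mul]
      exact pow_mem hcK k
  -- everything
  have full10 : ∀ a, a ∈ R H 1 0 := fun a => by
    obtain ⟨x, hx0, hx⟩ := col0 1 le_rfl (by omega)
    have := hKtop (a / x) x hx
    rwa [div_mul_cancel₀ a hx0] at this
  have fullL : ∀ i j k, i < n → j < n → i ≠ j → j ≠ k → k ≠ i → (∀ a, a ∈ R H j k) → Nz H i j → ∀ a, a ∈ R H i k := by
    intro i j k hi hj h1 h2 h3 hfull hnz a
    obtain ⟨x, hx0, hx⟩ := hnz
    have := R_comp hi hj h1 h2 h3 hx (hfull (a / x))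
    rwa [mul_div_cancel₀ a hx0] at this
  have full0 : ∀ i, i < n → i ≠ 0 → ∀ a, a ∈ R H i 0 := fun i hi hi0 => by
    rcases eq_or_ne i 1 with rfl | h1
    · exact full10
    · exact fullL i 1 0 hi (by omega) h1 (by omega) (by omega) full10 (col1 i hi h1)
  have fullR : ∀ i j, i < n → j < n → i ≠ j → i ≠ 0 → ∀ a, a ∈ R H i j := fun i j hi hj hij hi0 a => by
    rcases eq_or_ne j 0 with rfl | hj0
    · exact full0 i hi hi0 a
    · obtain ⟨x, hx0, hx⟩ := allNz 0 j hn0 hj hj0.symm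
      have := R_comp hi hn0 hi0 hj0.symm hij.symm (full0 i hi hi0 (a / x)) hx
      rwa [div_mul_cancel₀ a hx0] at this
  refine eq_top_of_R fun i j hi hj hij => ?_
  rcases eq_or_ne i 0 with rfl | hi0
  · obtain ⟨k, hk, hk0, hkj⟩ : ∃ k, k < n ∧ k ≠ 0 ∧ k ≠ j := by
      rcases eq_or_ne j 1 with rfl | h
      · exact ⟨2, by omega, by omega, by omega⟩
      · exact ⟨1, by omega, by omega, h.symm⟩
    exact fullL 0 k j hi hk hk0.symm hkj hij.symm (fullR k j hk hj hkj hk0) (allNz 0 k hn0 hk hk0.symm)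
  · exact fullR i j hi hj hij hi0

omit [Fact p.Prime] [CharP F p] in
theorem main [Fintype F] (hn : 4 ≤ n) :
    ∃ u g : SpecialLinearGroup (Fin n) F,
      (IsNilpotent ((u : Matrix (Fin n) (Fin n) F) - 1) ∧ ((u : Matrix (Fin n) (Fin n) F) - 1) ^ (n - 1) ≠ 0) ∧
      (IsNilpotent (((g * u * g⁻¹ : SpecialLinearGroup (Fin n) F) : Matrix (Fin n) (Fin n) F) - 1) ∧
        (((g * u * g⁻¹ : SpecialLinearGroup (Fin n) F) : Matrix (Fin n) (Fin n) F) - 1) ^ (n - 1) ≠ 0) ∧
      Subgroup.closure ({u, g * u * g⁻¹} : Set (SpecialLinearGroup (Fin n) F)) = ⊤ := by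
  obtain ⟨q, hq⟩ := CharP.exists F
  haveI : Fact q.Prime := ⟨CharP.char_is_prime F q⟩
  obtain ⟨l, hl⟩ := IsCyclic.exists_generator (α := Fˣ)
  have hn0 : 0 < n := by omega
  set u := cU F n q hn0
  set g : SpecialLinearGroup (Fin n) F := El 0 (n - 1) (l : F)
  have hu1 : IsNilpotent (u.1 - 1) := ⟨n, cM_nil hn0⟩
  have hu2 : (u.1 - 1) ^ (n - 1) ≠ 0 := cM_regular hn0
  have gi : (g⁻¹).1 * g.1 = 1 := congrArg Subtype.val (inv_mul_cancel g)
  have gi' : g.1 * (g⁻¹).1 = 1 := congrArg Subtype.val (mul_inv_cancel g)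
  have hpow : ∀ k : ℕ, ((g * u * g⁻¹).1 - 1) ^ k = g.1 * (u.1 - 1) ^ k * (g⁻¹).1 := by
    intro k
    induction k with
    | zero => rw [pow_zero, pow_zero, mul_one, gi']
    | succ k ih =>
      have e : (g * u * g⁻¹).1 - 1 = g.1 * (u.1 - 1) * (g⁻¹).1 := by
        rw [cmul, cmul, mul_sub, sub_mul, mul_one, gi']
      rw [pow_succ, pow_succ, ih, e]
      simp only [mul_assoc]
      rw [← mul_assoc (g⁻¹).1 g.1, gi, one_mul]
  refine ⟨u, g, ⟨hu1, hu2⟩, ⟨⟨n, by rw [hpow, show (u.1 - 1) ^ n = 0 from cM_nil hn0, mul_zero, zero_mul]⟩, ?_⟩, ?_⟩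
  · rw [hpow]
    intro h
    refine hu2 ?_
    have := congrArg (fun M => (g⁻¹).1 * M * g.1) h
    simpa only [mul_zero, zero_mul, ← mul_assoc, gi, one_mul, mul_assoc _ (g⁻¹).1 g.1, mul_one] using this
  · refine generation hn (c := (l : F)) l.ne_zero (fun x hx => ?_) _ (Subgroup.subset_closure (by simp [u]))
      (Subgroup.subset_closure (by simp [u, g]))
    obtain ⟨m, hm⟩ := (isOfFinOrder_of_finite l).mem_powers_iff_mem_zpowers.mpr (hl (Units.mk0 x hx))
    exact ⟨m, by simpa using (congrArg Units.val hm).symm⟩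

end Cfsg.Agent.Lib.RegUnipotent
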