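import Cfsg.Agent.Lib.RegUnipotent.Companion

/-! A corner transvection from differences of adjacent lower root elements. -/

set_option autoImplicit false

open Matrix

namespace Cfsg.Agent.Lib.RegUnipotent

variable {F : Type*} [Field F] {n : ℕ}

/-- The rank in the order `n-1, 0, 1, …, n-2`. -/
def rk (i : Fin n) : ℕ := if (i : ℕ) + 1 < n then (i : ℕ) + 1 else 0

theorem rk_inj : Function.Injective (rk (n := n)) := by
  intro a b h
  unfold rk at h
  apply Fin.ext
  have ha := a.2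
  have hb := b.2
  split_ifs at h <;> omega

theorem rk_lt (i : Fin n) : rk i < n := by
  unfold rk; split_ifs <;> omega

/-- The inverse of `rk`. -/
def sg (hn : 0 < n) (r : ℕ) : Fin n := if h : 1 ≤ r ∧ r < n then ⟨r - 1, by omega⟩ else ⟨n - 1, by omega⟩

theorem rk_sg (hn : 0 < n) {r : ℕ} (hr : r < n) : rk (sg hn r) = r := by
  unfold sg rk
  split_ifs with h1 h2 <;> simp_all <;> omega

/-- Vanishing below level `k`. -/
def Lev (k : ℕ) (A : Matrix (Fin n) (Fin n) F) : Prop := ∀ i j, rk i < rk j + k → A i j = 0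

theorem Lev.mono {k l : ℕ} {A : Matrix (Fin n) (Fin n) F} (h : Lev k A) (hl : l ≤ k) : Lev l A :=
  fun i j e => h i j (by omega)

theorem Lev.mul {k l : ℕ} {A B : Matrix (Fin n) (Fin n) F} (hA : Lev k A) (hB : Lev l B) : Lev (k + l) (A * B) := by
  intro i j h
  rw [Matrix.mul_apply]
  refine Finset.sum_eq_zero fun m _ => ?_
  rcases Nat.lt_or_ge (rk i) (rk m + k) with e | e
  · rw [hA i m e, zero_mul]
  · rw [hB m j (by omega), mul_zero]

theorem Lev.add {k : ℕ} {A B : Matrix (Fin n) (Fin n) F} (hA : Lev k A) (hB : Lev k B) : Lev k (A + B) :=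
  fun i j h => by rw [Matrix.add_apply, hA i j h, hB i j h, add_zero]

theorem Lev.sub {k : ℕ} {A B : Matrix (Fin n) (Fin n) F} (hA : Lev k A) (hB : Lev k B) : Lev k (A - B) :=
  fun i j h => by rw [Matrix.sub_apply, hA i j h, hB i j h, sub_zero]

theorem lev_pow {A : Matrix (Fin n) (Fin n) F} (hA : Lev 1 (A - 1)) : ∀ k : ℕ, Lev 1 (A ^ k - 1)
  | 0 => fun i j _ => by simp
  | k + 1 => by
    have e : A ^ (k + 1) - 1 = (A ^ k - 1) * (A - 1) + (A ^ k - 1) + (A - 1) := by rw [pow_succ]; noncomm_ring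
    rw [e]
    exact ((((lev_pow hA k).mul hA).mono (by omega)).add (lev_pow hA k)).add hA

theorem lev_inv [Finite F] {g : SpecialLinearGroup (Fin n) F} (hg : Lev 1 (g.1 - 1)) : Lev 1 ((g⁻¹).1 - 1) := by
  haveI : Fintype F := Fintype.ofFinite F
  haveI : Finite (Matrix.SpecialLinearGroup (Fin n) F) := Subtype.finite
  have e : g⁻¹ = g ^ (orderOf g - 1) := inv_eq_of_mul_eq_one_left (by
    rw [← pow_succ, show orderOf g - 1 + 1 = orderOf g by have := orderOf_pos g; omega, pow_orderOf_eq_one])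
  have hp : ∀ k : ℕ, (g ^ k).1 = g.1 ^ k := fun k => by
    induction k with
    | zero => rfl
    | succ k ih => rw [pow_succ, cmul, ih, pow_succ]
  rw [e, hp]
  exact lev_pow hg _

theorem lev_mul_apply {k : ℕ} {A B : Matrix (Fin n) (Fin n) F} (hA : Lev k A) (hB : Lev 1 (B - 1)) {i j : Fin n}
    (h : rk i = rk j + k) : (A * B) i j = A i j := by
  have e : A * B = A + A * (B - 1) := by noncomm_ring
  rw [e, Matrix.add_apply, (hA.mul hB) i j (by omega), add_zero]

/-- The leading term of a commutator. -/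
theorem comm_lead [Finite F] {k : ℕ} {g h : SpecialLinearGroup (Fin n) F} (hk : 1 ≤ k) (hg : Lev k (g.1 - 1))
    (hh : Lev 1 (h.1 - 1)) :
    Lev (k + 1) ((g * h * g⁻¹ * h⁻¹).1 - 1) ∧
      ∀ i j, rk i = rk j + (k + 1) → ∀ l₁ l₂, rk l₁ = rk j + 1 → rk l₂ + 1 = rk i →
        ((g * h * g⁻¹ * h⁻¹).1 - 1) i j =
          (g.1 - 1) i l₁ * (h.1 - 1) l₁ j - (h.1 - 1) i l₂ * (g.1 - 1) l₂ j := by
  set G := g.1 - 1 with hG
  set H := h.1 - 1 with hH
  set B := ((h * g)⁻¹).1 with hB
  have hB1 : Lev 1 (B - 1) := by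
    refine lev_inv ?_
    have e : (h * g).1 - 1 = H * G + H + G := by rw [cmul, hG, hH]; noncomm_ring
    rw [e]
    exact (((hh.mul hg).mono (by omega)).add hh).add (hg.mono hk)
  have key : (g * h * g⁻¹ * h⁻¹).1 - 1 = (G * H - H * G) * B := by
    have e1 : g * h * g⁻¹ * h⁻¹ = g * h * (h * g)⁻¹ := by rw [_root_.mul_inv_rev]; group
    have e2 : (h.1 * g.1) * B = 1 := congrArg Subtype.val (mul_inv_cancel (h * g))
    rw [e1, cmul, cmul, ← hB]
    conv_lhs => rw [← e2, ← sub_mul]
    congr 1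
    rw [hG, hH]; noncomm_ring
  have hlev : Lev (k + 1) (G * H - H * G) := (hg.mul hh).sub ((hh.mul hg).mono (by omega))
  refine ⟨?_, ?_⟩
  · rw [key]
    have e : (G * H - H * G) * B = (G * H - H * G) + (G * H - H * G) * (B - 1) := by noncomm_ring
    rw [e]
    exact hlev.add ((hlev.mul hB1).mono (by omega))
  · intro i j hij l₁ l₂ h1 h2
    rw [key, lev_mul_apply hlev hB1 hij, Matrix.sub_apply, Matrix.mul_apply, Matrix.mul_apply]
    congr 1
    · refine Finset.sum_eq_single l₁ (fun m _ hm => ?_) (fun hm => absurd (Finset.mem_univ _) hm)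
      rcases Nat.lt_or_ge (rk i) (rk m + k) with e | e
      · rw [hg i m e, zero_mul]
      · rw [hh m j (by
          have : rk m ≠ rk l₁ := fun c => hm (rk_inj c)
          omega), mul_zero]
    · refine Finset.sum_eq_single l₂ (fun m _ hm => ?_) (fun hm => absurd (Finset.mem_univ _) hm)
      rcases Nat.lt_or_ge (rk i) (rk m + 1) with e | e
      · rw [hh i m e, zero_mul]
      · rw [hg m j (by
          have : rk m ≠ rk l₂ := fun c => hm (rk_inj c)
          omega), mul_zero]

/-- Hyperplane generators give the corner. -/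
theorem exists_corner [Finite F] (hn : 4 ≤ n) (H : Subgroup (SpecialLinearGroup (Fin n) F))
    (hgen : ∀ p q : Fin n, rk p ≠ 0 → rk q ≠ 0 → p ≠ q → ∃ a ∈ H, Lev 1 (a.1 - 1) ∧
      (∀ r l, rk r = rk l + 1 → r ≠ p → r ≠ q → (a.1 - 1) r l = 0) ∧ ∀ l, rk p = rk l + 1 → (a.1 - 1) p l ≠ 0) :
    ∃ b : F, b ≠ 0 ∧ b ∈ R H (n - 2) (n - 1) := by
  have hn0 : 0 < n := by omega
  have other : ∀ x y : Fin n, ∃ q : Fin n, rk q ≠ 0 ∧ q ≠ x ∧ q ≠ y := by
    intro x y
    by_contra hc
    simp only [not_exists, not_and, not_not] at hc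
    have h1 := hc (sg hn0 1) (by rw [rk_sg hn0 (by omega)]; omega)
    have h2 := hc (sg hn0 2) (by rw [rk_sg hn0 (by omega)]; omega)
    have h3 := hc (sg hn0 3) (by rw [rk_sg hn0 (by omega)]; omega)
    have d : ∀ r s : ℕ, r < n → s < n → r ≠ s → sg hn0 r ≠ sg hn0 s := fun r s hr hs hrs e =>
      hrs (by rw [← rk_sg hn0 hr, ← rk_sg hn0 hs, e])
    have d12 := d 1 2 (by omega) (by omega) (by omega)
    have d13 := d 1 3 (by omega) (by omega) (by omega)
    have d23 := d 2 3 (by omega) (by omega) (by omega)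
    by_cases a1 : sg hn0 1 = x <;> by_cases a2 : sg hn0 2 = x
    · exact d12 (a1.trans a2.symm)
    · have := h2 a2
      rcases eq_or_ne (sg hn0 3) x with a3 | a3
      · exact d13 (a1.trans a3.symm)
      · exact d23 (this.trans (h3 a3).symm)
    · have := h1 a1
      rcases eq_or_ne (sg hn0 3) x with a3 | a3
      · exact d23 (a2.trans a3.symm)
      · exact d13 (this.trans (h3 a3).symm)
    · exact d12 ((h1 a1).trans (h2 a2).symm)
  have main : ∀ k, 1 ≤ k → k ≤ n - 1 → ∃ g ∈ H, Lev k (g.1 - 1) ∧ ∃ i j, rk i = rk j + k ∧ (g.1 - 1) i j ≠ 0 := by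
    intro k hk hkn
    induction k, hk using Nat.le_induction with
    | base =>
      obtain ⟨q, hq, hqp, -⟩ := other (sg hn0 1) (sg hn0 1)
      obtain ⟨a, ha, hl, -, hne⟩ := hgen (sg hn0 1) q (by rw [rk_sg hn0 (by omega)]; omega) hq hqp.symm
      exact ⟨a, ha, hl, sg hn0 1, sg hn0 0, by rw [rk_sg hn0 (by omega), rk_sg hn0 hn0],
        hne _ (by rw [rk_sg hn0 (by omega), rk_sg hn0 hn0])⟩
    | succ k hk ih =>
      obtain ⟨g, hg, hlev, i, j, hij, hz⟩ := ih (by omega)
      have hi := rk_lt i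
      rcases Nat.lt_or_ge (rk i + 1) n with hc | hc
      · set p := sg hn0 (rk i + 1) with hp
        set l₁ := sg hn0 (rk j + 1) with hl1
        have rp : rk p = rk i + 1 := rk_sg hn0 hc
        have rl : rk l₁ = rk j + 1 := rk_sg hn0 (by omega)
        obtain ⟨q, hq, hqp, hql⟩ := other p l₁
        obtain ⟨a, ha, hl, hzero, hne⟩ := hgen p q (by omega) hq hqp.symm
        obtain ⟨hl2, hlead⟩ := comm_lead hk hlev hl
        refine ⟨g * a * g⁻¹ * a⁻¹, mul_mem (mul_mem (mul_mem hg ha) (inv_mem hg)) (inv_mem ha), hl2, p, j, by omega, ?_⟩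
        rw [hlead p j (by omega) l₁ i rl (by omega),
          hzero l₁ j (by omega) (fun c => by rw [c] at rl; omega) hql.symm, mul_zero, zero_sub, neg_ne_zero]
        exact mul_ne_zero (hne i rp) hz
      · set j' := sg hn0 (rk j - 1) with hj'
        set l₂ := sg hn0 (rk i - 1) with hl2'
        have rj : rk j' = rk j - 1 := rk_sg hn0 (by omega)
        have rl : rk l₂ = rk i - 1 := rk_sg hn0 (by omega)
        obtain ⟨q, hq, hqp, hqi⟩ := other j i
        obtain ⟨a, ha, hl, hzero, hne⟩ := hgen j q (by omega) hq hqp.symm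
        obtain ⟨hl2, hlead⟩ := comm_lead hk hlev hl
        refine ⟨g * a * g⁻¹ * a⁻¹, mul_mem (mul_mem (mul_mem hg ha) (inv_mem hg)) (inv_mem ha), hl2, i, j', by omega, ?_⟩
        rw [hlead i j' (by omega) j l₂ (by omega) (by omega),
          hzero i l₂ (by omega) (fun c => by rw [c] at hij; omega) hqi.symm, zero_mul, sub_zero]
        exact mul_ne_zero hz (hne j' (by omega))
  obtain ⟨g, hg, hlev, i, j, hij, hz⟩ := main (n - 1) (by omega) le_rfl
  have hi := rk_lt i
  have hiv : (i : ℕ) = n - 2 := by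
    have : rk i = n - 1 := by omega
    unfold rk at this; split_ifs at this <;> omega
  have hjv : (j : ℕ) = n - 1 := by
    have : rk j = 0 := by omega
    unfold rk at this; split_ifs at this <;> omega
  refine ⟨_, hz, ?_⟩
  show El (n - 2) (n - 1) ((g.1 - 1) i j) ∈ H
  have hd : (ev (n - 1) : Fin n → F) ⬝ᵥ ((g.1 - 1) i j • ev (n - 2)) = 0 := by
    rw [dotProduct_smul, ev_dot_ev (by omega) (by omega), smul_zero]
  have e : g = El (n - 2) (n - 1) ((g.1 - 1) i j) := by
    refine sl_ext ?_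
    rw [El, coe_Tv hd, ← sub_eq_iff_eq_add']
    ext r s
    rw [vecMulVec_apply, Pi.smul_apply, smul_eq_mul]
    rcases eq_or_ne r i with rfl | hr
    · rcases eq_or_ne s j with rfl | hs
      · simp [ev, hiv, hjv]
      · rw [hlev r s (by have : rk s ≠ rk j := fun c => hs (rk_inj c); omega),
          show (ev (n - 1) : Fin n → F) s = 0 from if_neg fun c => hs (Fin.ext (by omega)), mul_zero]
    · rw [hlev r s (by have : rk r ≠ rk i := fun c => hr (rk_inj c); have := rk_lt r; omega),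
        show (ev (n - 2) : Fin n → F) r = 0 from if_neg fun c => hr (Fin.ext (by omega)), mul_zero, zero_mul]
  rw [← e]; exact hg

end Cfsg.Agent.Lib.RegUnipotent
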