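import Mathlib
import Cfsg.Agent.Lib.Classical.LinearSimple

/-! Transvections indexed by vectors, and root groups inside a subgroup of `SL`. -/

set_option autoImplicit false

open Matrix

namespace Cfsg.Agent.Lib.RegUnipotent

variable {F : Type*} [Field F] {n : ℕ}

theorem sl_ext {a b : SpecialLinearGroup (Fin n) F} (h : a.1 = b.1) : a = b :=
  Subtype.ext h

theorem cmul (a b : SpecialLinearGroup (Fin n) F) : (a * b).1 = a.1 * b.1 := rfl

/-- `1 + x ⊗ f` as an element of `SL`. -/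
def tvAux (x f : Fin n → F) (h : f ⬝ᵥ x = 0) : SpecialLinearGroup (Fin n) F :=
  ⟨1 + vecMulVec x f, by
    rw [vecMulVec_eq Unit, Matrix.det_one_add_replicateCol_mul_replicateRow, h, add_zero]⟩

/-- `1 + x ⊗ f` when `f x = 0`. -/
noncomputable def Tv (x f : Fin n → F) : SpecialLinearGroup (Fin n) F :=
  haveI := Classical.propDecidable (f ⬝ᵥ x = 0)
  if h : f ⬝ᵥ x = 0 then tvAux x f h else 1

theorem coe_Tv {x f : Fin n → F} (h : f ⬝ᵥ x = 0) :
    (Tv x f : Matrix (Fin n) (Fin n) F) = 1 + vecMulVec x f := by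
  have : Tv x f = tvAux x f h := by unfold Tv; exact dite_cond_eq_true (eq_true h)
  rw [this]; rfl

theorem Tv_mul {x f g : Fin n → F} (hf : f ⬝ᵥ x = 0) (hg : g ⬝ᵥ x = 0) : Tv x f * Tv x g = Tv x (f + g) := by
  refine sl_ext ?_
  rw [cmul, coe_Tv hf, coe_Tv hg, coe_Tv (by rw [add_dotProduct, hf, hg, add_zero]),
    add_mul, one_mul, mul_add, mul_one, vecMulVec_mul_vecMulVec, hf, zero_smul, Matrix.vecMulVec_zero, add_zero,
    vecMulVec_add]
  abel

theorem Tv_zero (x : Fin n → F) : Tv x 0 = 1 := by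
  refine sl_ext ?_
  rw [coe_Tv (by simp), Matrix.vecMulVec_zero, add_zero]; rfl

theorem Tv_inv {x f : Fin n → F} (hf : f ⬝ᵥ x = 0) : (Tv x f)⁻¹ = Tv x (-f) :=
  inv_eq_of_mul_eq_one_right (by rw [Tv_mul hf (by rw [neg_dotProduct, hf, neg_zero]), add_neg_cancel, Tv_zero])

theorem Tv_smul (a : F) (x f : Fin n → F) (hf : f ⬝ᵥ x = 0) : Tv (a • x) f = Tv x (a • f) := by
  refine sl_ext ?_
  rw [coe_Tv (by rw [dotProduct_smul, hf, smul_zero]), coe_Tv (by rw [smul_dotProduct, hf, smul_zero]),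
    smul_vecMulVec, vecMulVec_smul]

theorem conj_Tv (g : SpecialLinearGroup (Fin n) F) {x f : Fin n → F} (hf : f ⬝ᵥ x = 0) :
    g * Tv x f * g⁻¹ =
      Tv ((g : Matrix (Fin n) (Fin n) F) *ᵥ x) (f ᵥ* ((g⁻¹ : SpecialLinearGroup (Fin n) F) : Matrix (Fin n) (Fin n) F)) := by
  have h1 : ((g⁻¹ : SpecialLinearGroup (Fin n) F) : Matrix (Fin n) (Fin n) F) * (g : Matrix (Fin n) (Fin n) F) = 1 := by
    exact congrArg Subtype.val (inv_mul_cancel g)
  have h0 : (f ᵥ* ((g⁻¹ : SpecialLinearGroup (Fin n) F) : Matrix (Fin n) (Fin n) F)) ⬝ᵥ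
      ((g : Matrix (Fin n) (Fin n) F) *ᵥ x) = 0 := by
    rw [← dotProduct_mulVec, mulVec_mulVec, h1, one_mulVec, hf]
  refine sl_ext ?_
  rw [cmul, cmul, coe_Tv hf, coe_Tv h0, mul_add, mul_one, add_mul,
    ← cmul g g⁻¹, mul_inv_cancel, mul_vecMulVec, vecMulVec_mul]
  rfl

theorem comm_Tv {x f y g : Fin n → F} (hf : f ⬝ᵥ x = 0) (hg : g ⬝ᵥ y = 0) (h : g ⬝ᵥ x = 0) :
    Tv x f * Tv y g * (Tv x f)⁻¹ * (Tv y g)⁻¹ = Tv x ((f ⬝ᵥ y) • g) := by
  rw [Tv_inv hg, Tv_inv hf]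
  refine sl_ext ?_
  simp only [cmul]
  rw [coe_Tv hf, coe_Tv hg, coe_Tv (by rw [neg_dotProduct, hf, neg_zero]), coe_Tv (by rw [neg_dotProduct, hg, neg_zero]),
    coe_Tv (by rw [smul_dotProduct, h, smul_zero])]
  simp only [vecMulVec_neg, vecMulVec_smul, mul_add, add_mul, one_mul, mul_one, mul_neg, neg_mul,
    vecMulVec_mul_vecMulVec, hf, hg, h, zero_smul, Matrix.vecMulVec_zero, smul_mul_assoc, mul_zero, zero_mul,
    smul_zero, neg_zero, add_zero, zero_add]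
  abel

/-- The basis vector with a natural index. -/
def ev (k : ℕ) : Fin n → F := fun i => if (i : ℕ) = k then 1 else 0

theorem ev_dot {k : ℕ} (hk : k < n) (v : Fin n → F) : ev k ⬝ᵥ v = v ⟨k, hk⟩ := by
  simp only [ev, dotProduct, ite_mul, one_mul, zero_mul]
  rw [Finset.sum_eq_single ⟨k, hk⟩]
  · simp
  · intro i _ hi
    rw [if_neg fun h => hi (Fin.ext h)]
  · simp

theorem dot_ev {k : ℕ} (hk : k < n) (v : Fin n → F) : v ⬝ᵥ ev k = v ⟨k, hk⟩ := by
  rw [dotProduct_comm, ev_dot hk]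

theorem ev_dot_ev {k l : ℕ} (hl : l < n) (h : k ≠ l) : (ev k : Fin n → F) ⬝ᵥ ev l = 0 := by
  rw [dot_ev hl, ev, if_neg (Ne.symm h)]

theorem ev_dot_self {k : ℕ} (hk : k < n) : (ev k : Fin n → F) ⬝ᵥ ev k = 1 := by
  rw [dot_ev hk, ev, if_pos rfl]

/-- The elementary element `1 + a E_{ij}`. -/
noncomputable def El (i j : ℕ) (a : F) : SpecialLinearGroup (Fin n) F := Tv (a • ev i) (ev j)

section Roots

variable (H : Subgroup (SpecialLinearGroup (Fin n) F))

/-- The scalars of a root group inside `H`. -/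
def R (i j : ℕ) : Set F := {a | El i j a ∈ H}

/-- The root group is nontrivial inside `H`. -/
def Nz (i j : ℕ) : Prop := ∃ a, a ≠ 0 ∧ a ∈ R H i j

variable {H}

theorem R_comp {i j k : ℕ} (hi : i < n) (hj : j < n) (hij : i ≠ j) (hjk : j ≠ k) (hki : k ≠ i) {x y : F}
    (hx : x ∈ R H i j) (hy : y ∈ R H j k) : x * y ∈ R H i k := by
  have h1 : (ev j : Fin n → F) ⬝ᵥ (x • ev i) = 0 := by rw [dotProduct_smul, ev_dot_ev hi hij.symm, smul_zero]
  have h2 : (ev k : Fin n → F) ⬝ᵥ (y • ev j) = 0 := by rw [dotProduct_smul, ev_dot_ev hj hjk.symm, smul_zero]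
  have h3 : (ev k : Fin n → F) ⬝ᵥ (x • ev i) = 0 := by rw [dotProduct_smul, ev_dot_ev hi hki, smul_zero]
  have e := comm_Tv h1 h2 h3
  rw [dotProduct_smul, ev_dot_self hj, smul_eq_mul, mul_one, ← Tv_smul y _ _ h3, smul_smul, mul_comm y] at e
  show El i k (x * y) ∈ H
  rw [El, ← e]
  exact mul_mem (mul_mem (mul_mem hx hy) (inv_mem hx)) (inv_mem hy)

theorem Nz_comp {i j k : ℕ} (hi : i < n) (hj : j < n) (hij : i ≠ j) (hjk : j ≠ k) (hki : k ≠ i)
    (hx : Nz H i j) (hy : Nz H j k) : Nz H i k := by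
  obtain ⟨x, hx0, hx⟩ := hx
  obtain ⟨y, hy0, hy⟩ := hy
  exact ⟨x * y, mul_ne_zero hx0 hy0, R_comp hi hj hij hjk hki hx hy⟩

theorem R_add {i j : ℕ} (hi : i < n) (hij : i ≠ j) {x y : F} (hx : x ∈ R H i j) (hy : y ∈ R H i j) :
    x + y ∈ R H i j := by
  have h : ∀ z : F, (z • ev j : Fin n → F) ⬝ᵥ ev i = 0 := fun z => by
    rw [smul_dotProduct, ev_dot_ev hi hij.symm, smul_zero]
  have hs : ∀ z : F, Tv (z • ev i : Fin n → F) (ev j) = Tv (ev i) (z • ev j) := fun z =>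
    Tv_smul z _ _ (ev_dot_ev hi hij.symm)
  show Tv ((x + y) • ev i) (ev j) ∈ H
  rw [hs, add_smul, ← Tv_mul (h x) (h y), ← hs, ← hs]
  exact mul_mem hx hy

theorem zero_mem_R (i j : ℕ) : (0 : F) ∈ R H i j := by
  show Tv ((0 : F) • ev i) (ev j) ∈ H
  have : Tv (0 : Fin n → F) (ev j) = 1 := by
    refine sl_ext ?_; rw [coe_Tv (by simp), Matrix.zero_vecMulVec, add_zero]; rfl
  rw [zero_smul, this]; exact one_mem H

theorem R_neg {i j : ℕ} (hi : i < n) (hij : i ≠ j) {x : F} (hx : x ∈ R H i j) : -x ∈ R H i j := by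
  show Tv ((-x) • ev i) (ev j) ∈ H
  rw [Tv_smul _ _ _ (ev_dot_ev hi hij.symm), neg_smul, ← Tv_inv (by rw [smul_dotProduct, ev_dot_ev hi hij.symm, smul_zero]),
    ← Tv_smul _ _ _ (ev_dot_ev hi hij.symm)]
  exact inv_mem hx

/-- Injective multiplications both ways between two finite sets are bijective. -/
theorem mem_of_links [Finite F] {A B : Set F} {y q z : F} (hy : y ≠ 0) (hq : q ≠ 0)
    (hAB : ∀ a ∈ A, a * y ∈ B) (hBA : ∀ b ∈ B, b * q ∈ A) (hz : z * y ∈ B) : z ∈ A := by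
  classical
  have h1 : (A.toFinite.toFinset.image (· * y)) = B.toFinite.toFinset := by
    classical
    apply Finset.eq_of_subset_of_card_le
    · intro b hb
      obtain ⟨a, ha, rfl⟩ := Finset.mem_image.mp hb
      exact B.toFinite.mem_toFinset.mpr (hAB a (A.toFinite.mem_toFinset.mp ha))
    · rw [Finset.card_image_of_injective _ (mul_left_injective₀ hy)]
      exact Finset.card_le_card_of_injOn (· * q)
        (fun b hb => A.toFinite.mem_toFinset.mpr (hBA b (B.toFinite.mem_toFinset.mp hb)))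
        (fun b _ c _ h => mul_left_injective₀ hq h)
  classical
  have : z * y ∈ A.toFinite.toFinset.image (· * y) := by rw [h1]; exact B.toFinite.mem_toFinset.mpr hz
  obtain ⟨a, ha, e⟩ := Finset.mem_image.mp this
  exact mul_right_cancel₀ hy e ▸ A.toFinite.mem_toFinset.mp ha

/-- Extracting one coordinate of a transvection. -/
theorem extract [Finite F] {i l b : ℕ} (hi : i < n) (hl : l < n) (hb : b < n) (hil : i ≠ l) (hbi : b ≠ i)
    (hbl : b ≠ l) {x : F} {f : Fin n → F} (hf : f ⟨i, hi⟩ = 0) (hT : Tv (x • ev i) f ∈ H)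
    (h1 : Nz H l b) (h2 : Nz H b l) : x * f ⟨l, hl⟩ ∈ R H i l := by
  obtain ⟨y, hy0, hy⟩ := h1
  obtain ⟨q, hq0, hq⟩ := h2
  refine mem_of_links hy0 hq0 (fun a ha => R_comp hi hl hil hbl.symm hbi ha hy)
    (fun a ha => R_comp hi hb hbi.symm hbl hil.symm ha hq) ?_
  have g1 : f ⬝ᵥ (x • ev i) = 0 := by rw [dotProduct_smul, dot_ev hi, hf, smul_zero]
  have g2 : (ev b : Fin n → F) ⬝ᵥ (y • ev l) = 0 := by rw [dotProduct_smul, ev_dot_ev hl hbl, smul_zero]
  have g3 : (ev b : Fin n → F) ⬝ᵥ (x • ev i) = 0 := by rw [dotProduct_smul, ev_dot_ev hi hbi, smul_zero]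
  have e := comm_Tv g1 g2 g3
  rw [dotProduct_smul, dot_ev hl, smul_eq_mul, ← Tv_smul _ _ _ g3, smul_smul] at e
  show El i b (x * f ⟨l, hl⟩ * y) ∈ H
  rw [El, show x * f ⟨l, hl⟩ * y = y * f ⟨l, hl⟩ * x by ring, ← e]
  exact mul_mem (mul_mem (mul_mem hT hy) (inv_mem hT)) (inv_mem hy)

theorem eq_top_of_R (h : ∀ i j, i < n → j < n → i ≠ j → ∀ a, a ∈ R H i j) : H = ⊤ := by
  refine Cfsg.Agent.Lib.Classical.SL_eq_top_of_transvection_mem ?_
  intro i j hij a
  have e : SpecialLinearGroup.transvection hij a = El (i : ℕ) (j : ℕ) a := by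
    refine sl_ext ?_
    rw [El, coe_Tv (by rw [dotProduct_smul, ev_dot_ev i.2 (fun h => hij (Fin.ext h.symm)), smul_zero])]
    show (1 : Matrix (Fin n) (Fin n) F) + Matrix.single i j a = _
    congr 1
    ext r s
    simp only [vecMulVec_apply, Pi.smul_apply, smul_eq_mul, ev, Matrix.single, Matrix.of_apply]
    rcases eq_or_ne r i with rfl | hr <;> rcases eq_or_ne s j with rfl | hs <;>
      simp_all [Fin.val_inj, eq_comm]
  rw [e]
  exact h i j i.2 j.2 (fun h => hij (Fin.ext h)) a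

end Roots

end Cfsg.Agent.Lib.RegUnipotent
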